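import Mathlib

/-!
# Involutions attached to Eckardt points of cubic surfaces
-/

set_option autoImplicit false

open MvPolynomial Matrix

namespace Groth.Agent.Eckardt

/-- Vectors of `ℂ⁴`. -/
abbrev V : Type := Fin 4 → ℂ

/-- A symmetric trilinear form. -/
structure SymTri where
  T : V → V → V → ℂ
  comm12 : ∀ a b c, T a b c = T b a c
  comm23 : ∀ a b c, T a b c = T a c b
  add : ∀ a a' b c, T (a + a') b c = T a b c + T a' b c
  smul : ∀ (t : ℂ) a b c, T (t • a) b c = t * T a b c

namespace SymTri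

variable (S : SymTri)

theorem add2 (a b b' c : V) : S.T a (b + b') c = S.T a b c + S.T a b' c := by
  rw [S.comm12, S.add, S.comm12 b, S.comm12 b']

theorem add3 (a b c c' : V) : S.T a b (c + c') = S.T a b c + S.T a b c' := by
  rw [S.comm23, S.add2, S.comm23 a c, S.comm23 a c']

theorem smul2 (t : ℂ) (a b c : V) : S.T a (t • b) c = t * S.T a b c := by
  rw [S.comm12, S.smul, S.comm12 b]

theorem smul3 (t : ℂ) (a b c : V) : S.T a b (t • c) = t * S.T a b c := by
  rw [S.comm23, S.smul2, S.comm23 a c]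

theorem expand (u w : V) (t : ℂ) : S.T (u + t • w) (u + t • w) (u + t • w) =
    S.T u u u + t * (3 * S.T u u w) + t ^ 2 * (3 * S.T u w w) + t ^ 3 * S.T w w w := by
  simp only [S.add, S.add2, S.add3, S.smul, S.smul2, S.smul3]
  rw [S.comm12 w u u, S.comm23 u w u, S.comm12 w u w, S.comm23 w w u, S.comm12 w u w]
  ring

end SymTri

/-- The symmetrised product of three coordinates. -/
noncomputable def monoTri (r : ℂ) (a b c : Fin 4) : SymTri where
  T x y z := r / 6 * (x a * y b * z c + x a * y c * z b + x b * y a * z c + x b * y c * z a +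
    x c * y a * z b + x c * y b * z a)
  comm12 x y z := by ring
  comm23 x y z := by ring
  add x x' y z := by simp only [Pi.add_apply]; ring
  smul t x y z := by simp only [Pi.smul_apply, smul_eq_mul]; ring

/-- Sum of two symmetric trilinear forms. -/
def addTri (S S' : SymTri) : SymTri where
  T x y z := S.T x y z + S'.T x y z
  comm12 x y z := by rw [S.comm12, S'.comm12]
  comm23 x y z := by rw [S.comm23, S'.comm23]
  add x x' y z := by rw [S.add, S'.add]; ring
  smul t x y z := by rw [S.smul, S'.smul]; ring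

/-- Polarization of a homogeneous cubic. -/
def IsPolar (f : MvPolynomial (Fin 4) ℂ) (S : SymTri) : Prop :=
  (∀ u, eval u f = S.T u u u) ∧ ∀ i v, eval v (pderiv i f) = 3 * S.T (Pi.single i 1) v v

theorem exists_polar (f : MvPolynomial (Fin 4) ℂ) (hf : f.IsHomogeneous 3) :
    ∃ S, IsPolar f S := by
  suffices H : ∀ s : Finset (Fin 4 →₀ ℕ), (∀ d ∈ s, f.coeff d ≠ 0) →
      ∃ S, IsPolar (∑ d ∈ s, monomial d (f.coeff d)) S by
    obtain ⟨S, hS⟩ := H f.support fun d hd => mem_support_iff.1 hd
    rw [← f.as_sum] at hS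
    exact ⟨S, hS⟩
  intro s
  induction s using Finset.induction with
  | empty =>
    intro _
    refine ⟨monoTri 0 0 0 0, fun u => ?_, fun i v => ?_⟩ <;> simp [monoTri]
  | insert d s hd ih =>
    intro hs
    obtain ⟨S, hS, hS'⟩ := ih fun e he => hs e (Finset.mem_insert_of_mem he)
    have hdeg : d.degree = 3 := hf.degree_eq_sum_deg_support (mem_support_iff.2 (hs d (Finset.mem_insert_self _ _))) |>.symm
    have hcard : Multiset.card (Finsupp.toMultiset d) = 3 := by
      rw [Finsupp.card_toMultiset]; exact hdeg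
    obtain ⟨a, b, c, habc⟩ := Multiset.card_eq_three.1 hcard
    have hd' : d = Finsupp.single a 1 + Finsupp.single b 1 + Finsupp.single c 1 := by
      apply Finsupp.orderIsoMultiset.injective
      show Finsupp.toMultiset d = Finsupp.toMultiset _
      rw [habc]
      simp [Finsupp.toMultiset_single, ← Multiset.singleton_add, add_assoc]
    have hm : monomial d (f.coeff d) = C (f.coeff d) * (X a * X b * X c) := by
      generalize f.coeff d = r
      rw [hd']
      simp [X, C_mul_monomial, monomial_mul]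
    refine ⟨addTri (monoTri (f.coeff d) a b c) S, fun u => ?_, fun i v => ?_⟩
    · rw [Finset.sum_insert hd, map_add, hS u, hm]
      simp [addTri, monoTri]
      ring
    · rw [Finset.sum_insert hd, map_add, map_add, hS' i v, hm]
      simp only [pderiv_mul, pderiv_C, zero_mul, zero_add, map_add, map_mul, eval_C, eval_X,
        addTri, monoTri]
      simp only [pderiv_X, Pi.single_apply]
      by_cases h1 : a = i <;> by_cases h2 : b = i <;> by_cases h3 : c = i <;>
        simp [h1, h2, h3, eq_comm] <;> ring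

/-- The smoothness condition. -/
def IsSmoothCubic (f : MvPolynomial (Fin 4) ℂ) : Prop :=
  ∀ v : V, v ≠ 0 → eval v f = 0 → ∃ i : Fin 4, eval v (pderiv i f) ≠ 0

/-- Three distinct lines on the surface pass through `e`. -/
def HasThreeLines (f : MvPolynomial (Fin 4) ℂ) (e : V) : Prop :=
  ∃ U : Fin 3 → Submodule ℂ V, Function.Injective U ∧
    ∀ i : Fin 3, Module.finrank ℂ ↥(U i) = 2 ∧ e ∈ U i ∧ ∀ u ∈ U i, eval u f = 0

/-- `L`. -/
def lin (S : SymTri) (e : V) : V →ₗ[ℂ] ℂ where
  toFun u := 3 * S.T u e e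
  map_add' a b := by rw [S.add]; ring
  map_smul' t a := by rw [S.smul, RingHom.id_apply, smul_eq_mul]; ring

/-- The data of an Eckardt point. -/
structure Frame (S : SymTri) (e : V) where
  M : V →ₗ[ℂ] ℂ
  eee : S.T e e e = 0
  L_ne : ∃ u, lin S e u ≠ 0
  M_e : M e = 2
  quad : ∀ u, 3 * S.T u u e = lin S e u * M u

theorem exists_frame {f : MvPolynomial (Fin 4) ℂ} {S : SymTri} (hS : IsPolar f S)
    (hsm : IsSmoothCubic f) {e : V} (he : e ≠ 0) (hE : HasThreeLines f e) :
    Nonempty (Frame S e) := by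
  obtain ⟨U, hU, h⟩ := hE
  have heee : S.T e e e = 0 := by rw [← hS.1]; exact (h 0).2.2 e (h 0).2.1
  have hLne : ∃ u, lin S e u ≠ 0 := by
    obtain ⟨i, hi⟩ := hsm e he (by rw [hS.1, heee])
    exact ⟨Pi.single i 1, by rw [hS.2] at hi; exact hi⟩
  have hline : ∀ i, ∀ u ∈ U i, S.T u u e = 0 ∧ S.T u e e = 0 := by
    intro i u hu
    have hz : ∀ t : ℂ, eval (u + t • e) f = 0 := fun t =>
      (h i).2.2 _ (Submodule.add_mem _ hu (Submodule.smul_mem _ t (h i).2.1))
    have h0 : S.T u u u = 0 := by rw [← hS.1]; exact (h i).2.2 u hu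
    have h1 := hz 1
    have h2 := hz (-1)
    rw [hS.1, S.expand, h0, heee] at h1 h2
    ring_nf at h1 h2
    exact ⟨by linear_combination (h1 - h2) / 6, by linear_combination (h1 + h2) / 6⟩
  have hchoose : ∀ i, ∃ u ∈ U i, u ∉ Submodule.span ℂ {e} := by
    intro i
    by_contra hc
    push Not at hc
    have := Submodule.finrank_mono (show U i ≤ Submodule.span ℂ {e} from hc)
    rw [(h i).1, finrank_span_singleton he] at this
    omega
  choose u hu hue using hchoose
  have hspan : ∀ i, U i = Submodule.span ℂ {e, u i} := by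
    intro i
    symm
    refine Submodule.eq_of_le_of_finrank_le (Submodule.span_le.2 ?_) ?_
    · rintro x (rfl | rfl)
      exacts [(h i).2.1, hu i]
    · rw [(h i).1]
      have hli : LinearIndependent ℂ ![e, u i] := by
        rw [LinearIndependent.pair_iff' he]
        exact fun a ha => hue i (ha ▸ Submodule.smul_mem _ a (Submodule.mem_span_singleton_self e))
      have := finrank_span_eq_card hli
      rw [Matrix.range_cons, Matrix.range_cons, Matrix.range_empty, Set.union_empty,
        Set.singleton_union] at this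
      rw [this]; simp
  have hnot : ∀ i j, i ≠ j → u i ∉ U j := by
    intro i j hij hc
    refine hij (hU ?_)
    refine Submodule.eq_of_le_of_finrank_le ?_ (by rw [(h i).1, (h j).1])
    rw [hspan i, Submodule.span_le]
    rintro x (rfl | rfl)
    exacts [(h j).2.1, hc]
  have hli : LinearIndependent ℂ ![e, u 0, u 1] := by
    rw [Fintype.linearIndependent_iff]
    intro g hg
    simp [Fin.sum_univ_three] at hg
    have h2 : g 2 = 0 := by
      by_contra hne
      refine hnot 1 0 (by decide) ?_
      have : u 1 = (g 2)⁻¹ • (-(g 0 • e + g 1 • u 0)) := by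
        rw [show -(g 0 • e + g 1 • u 0) = g 2 • u 1 by rw [neg_eq_iff_add_eq_zero, ← hg],
          inv_smul_smul₀ hne]
      rw [this]
      exact Submodule.smul_mem _ _ (Submodule.neg_mem _ (Submodule.add_mem _
        (Submodule.smul_mem _ _ (h 0).2.1) (Submodule.smul_mem _ _ (hu 0))))
    have h1 : g 1 = 0 := by
      by_contra hne
      refine hue 0 ?_
      rw [h2, zero_smul, add_zero] at hg
      have : u 0 = (g 1)⁻¹ • (-(g 0 • e)) := by
        rw [show -(g 0 • e) = g 1 • u 0 by rw [neg_eq_iff_add_eq_zero, ← hg], inv_smul_smul₀ hne]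
      rw [this]
      exact Submodule.smul_mem _ _ (Submodule.neg_mem _
        (Submodule.smul_mem _ _ (Submodule.mem_span_singleton_self e)))
    rw [h1, h2, zero_smul, zero_smul, add_zero, add_zero] at hg
    intro i
    fin_cases i
    exacts [(smul_eq_zero.1 hg).resolve_right he, h1, h2]
  have hker : LinearMap.ker (lin S e) = Submodule.span ℂ (Set.range ![e, u 0, u 1]) := by
    symm
    refine Submodule.eq_of_le_of_finrank_le (Submodule.span_le.2 ?_) ?_
    · rintro x ⟨i, rfl⟩
      show 3 * S.T _ e e = 0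
      fin_cases i
      · simp [heee]
      · simp [(hline 0 _ (hu 0)).2]
      · simp [(hline 1 _ (hu 1)).2]
    · rw [finrank_span_eq_card hli]
      have h4 := LinearMap.finrank_range_add_finrank_ker (lin S e)
      have hpos : 0 < Module.finrank ℂ (LinearMap.range (lin S e)) := by
        obtain ⟨x, hx⟩ := hLne
        exact Module.finrank_pos_iff_exists_ne_zero.2
          ⟨⟨lin S e x, ⟨x, rfl⟩⟩, fun hc => hx (congrArg Subtype.val hc)⟩
      simp at h4 ⊢
      omega
  have hcoord : ∀ x ∈ LinearMap.ker (lin S e), ∃ a b c : ℂ, x = a • e + b • u 0 + c • u 1 := by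
    intro x hx
    rw [hker, Submodule.mem_span_range_iff_exists_fun] at hx
    obtain ⟨g, rfl⟩ := hx
    exact ⟨g 0, g 1, g 2, by simp [Fin.sum_univ_three]⟩
  have hQ : ∀ a b c : ℂ, S.T (a • e + b • u 0 + c • u 1) (a • e + b • u 0 + c • u 1) e =
      2 * b * c * S.T (u 0) (u 1) e := by
    intro a b c
    simp only [S.add, S.add2, S.smul, S.smul2]
    rw [heee, S.comm12 e (u 0) e, S.comm12 e (u 1) e, (hline 0 _ (hu 0)).2, (hline 1 _ (hu 1)).2,
      (hline 0 _ (hu 0)).1, (hline 1 _ (hu 1)).1, S.comm12 (u 1) (u 0) e]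
    ring
  have hB : S.T (u 0) (u 1) e = 0 := by
    obtain ⟨a, b, c, habc⟩ := hcoord (u 2) (show 3 * S.T (u 2) e e = 0 by
      rw [(hline 2 _ (hu 2)).2, mul_zero])
    have h2 := (hline 2 _ (hu 2)).1
    rw [habc, hQ] at h2
    have hb : b ≠ 0 := fun hb => hnot 2 1 (by decide) (by
      rw [habc, hb, zero_smul, add_zero]
      exact Submodule.add_mem _ (Submodule.smul_mem _ _ (h 1).2.1) (Submodule.smul_mem _ _ (hu 1)))
    have hc : c ≠ 0 := fun hc => hnot 2 0 (by decide) (by
      rw [habc, hc, zero_smul, add_zero]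
      exact Submodule.add_mem _ (Submodule.smul_mem _ _ (h 0).2.1) (Submodule.smul_mem _ _ (hu 0)))
    simpa [hb, hc] using h2
  have hzero : ∀ x ∈ LinearMap.ker (lin S e), S.T x x e = 0 := by
    intro x hx
    obtain ⟨a, b, c, rfl⟩ := hcoord x hx
    rw [hQ, hB, mul_zero]
  obtain ⟨x, hx⟩ := hLne
  let v : V := (lin S e x)⁻¹ • x
  have hv : lin S e v = 1 := by
    simp only [v, map_smul, smul_eq_mul]
    exact inv_mul_cancel₀ hx
  let M : V →ₗ[ℂ] ℂ :=
    { toFun := fun w => 6 * S.T w v e - lin S e w * (3 * S.T v v e)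
      map_add' := fun a b => by rw [S.add, map_add]; ring
      map_smul' := fun t a => by rw [S.smul, map_smul, RingHom.id_apply, smul_eq_mul, smul_eq_mul]; ring }
  refine ⟨⟨M, heee, ⟨v, by rw [hv]; exact one_ne_zero⟩, ?_, fun w => ?_⟩⟩
  · show 6 * S.T e v e - lin S e e * _ = 2
    have h1 : 3 * S.T v e e = 1 := hv
    have h2 : lin S e e = 0 := by show 3 * S.T e e e = 0; rw [heee, mul_zero]
    rw [h2, S.comm12 e v e]
    linear_combination 2 * h1
  · have hk : w + (-lin S e w) • v ∈ LinearMap.ker (lin S e) := by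
      rw [LinearMap.mem_ker, map_add, map_smul, hv, smul_eq_mul]
      ring
    have := hzero _ hk
    simp only [S.add, S.add2, S.smul, S.smul2, S.comm12 v w e] at this
    show 3 * S.T w w e = lin S e w * (6 * S.T w v e - lin S e w * (3 * S.T v v e))
    linear_combination 3 * this

variable {S : SymTri} {e : V}

theorem Frame.f_add (F : Frame S e) (u : V) (t : ℂ) : S.T (u + t • e) (u + t • e) (u + t • e) =
    S.T u u u + t * (lin S e u * F.M u) + t ^ 2 * lin S e u := by
  rw [S.expand, F.eee, F.quad]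
  show _ + t ^ 2 * lin S e u + _ = _
  ring

theorem Frame.lin_self (F : Frame S e) : lin S e e = 0 := by
  show 3 * S.T e e e = 0
  rw [F.eee, mul_zero]

theorem Frame.ne_zero (F : Frame S e) : e ≠ 0 := fun h => by simpa [h] using F.M_e

/-- The involution of an Eckardt point. -/
def Frame.σ (F : Frame S e) : V →ₗ[ℂ] V := LinearMap.id - F.M.smulRight e

theorem Frame.σ_apply (F : Frame S e) (u : V) : F.σ u = u + (-F.M u) • e := by
  simp [Frame.σ, sub_eq_add_neg]

theorem Frame.σ_σ (F : Frame S e) (u : V) : F.σ (F.σ u) = u := by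
  rw [F.σ_apply u, F.σ_apply, map_add, map_smul, F.M_e, smul_eq_mul, add_assoc, ← add_smul]
  ring_nf
  simp

theorem Frame.σ_e (F : Frame S e) : F.σ e = -e := by
  rw [F.σ_apply, F.M_e]
  module

theorem Frame.σ_preserves (F : Frame S e) (u : V) :
    S.T (F.σ u) (F.σ u) (F.σ u) = S.T u u u := by
  rw [F.σ_apply, F.f_add]
  ring

/-- The conditions characterising the involution of an Eckardt point. -/
def IsInvolution (f : MvPolynomial (Fin 4) ℂ) (e : V) (A : Matrix (Fin 4) (Fin 4) ℂ) : Prop :=
  A * A = 1 ∧ Module.finrank ℂ ↥(LinearMap.ker (Matrix.toLin' A - LinearMap.id)) = 3 ∧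
    A.mulVec e = -e ∧
      ∃ c : ℂ, aeval (fun i : Fin 4 => ∑ j : Fin 4, C (A i j) * X j) f = C c * f

theorem scaling_iff (f : MvPolynomial (Fin 4) ℂ) (A : Matrix (Fin 4) (Fin 4) ℂ) (c : ℂ) :
    aeval (fun i : Fin 4 => ∑ j : Fin 4, C (A i j) * X j) f = C c * f ↔
      ∀ u, eval (A.mulVec u) f = c * eval u f := by
  have key : ∀ u, eval u (aeval (fun i : Fin 4 => ∑ j : Fin 4, C (A i j) * X j) f) =
      eval (A.mulVec u) f := by
    intro u
    have : (eval u).comp (aeval (fun i : Fin 4 => ∑ j : Fin 4, C (A i j) * X j)).toRingHom =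
        eval (A.mulVec u) := by
      apply MvPolynomial.ringHom_ext
      · intro r; simp
      · intro i; simp [Matrix.mulVec, dotProduct]
    exact RingHom.congr_fun this f
  constructor
  · intro h u
    rw [← key, h, map_mul, eval_C]
  · intro h
    apply MvPolynomial.funext
    intro u
    rw [key, h, map_mul, eval_C]

/-- The matrix of the involution. -/
noncomputable def Frame.mat (F : Frame S e) : Matrix (Fin 4) (Fin 4) ℂ := LinearMap.toMatrix' F.σ

theorem Frame.mat_mulVec (F : Frame S e) (u : V) : F.mat.mulVec u = F.σ u := by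
  rw [← Matrix.toLin'_apply, Frame.mat, Matrix.toLin'_toMatrix']

variable {f : MvPolynomial (Fin 4) ℂ}

theorem Frame.mat_mul_self (F : Frame S e) : F.mat * F.mat = 1 := by
  apply Matrix.toLin'.injective
  apply LinearMap.ext
  intro u
  rw [Matrix.toLin'_mul, LinearMap.comp_apply, Matrix.toLin'_apply, Matrix.toLin'_apply,
    F.mat_mulVec, F.mat_mulVec, F.σ_σ, Matrix.toLin'_one, LinearMap.id_apply]

theorem Frame.isInvolution (F : Frame S e) (hS : IsPolar f S) : IsInvolution f e F.mat := by
  refine ⟨F.mat_mul_self, ?_, by rw [F.mat_mulVec, F.σ_e], 1, ?_⟩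
  · have : LinearMap.ker (Matrix.toLin' F.mat - LinearMap.id) = LinearMap.ker F.M := by
      ext u
      rw [LinearMap.mem_ker, LinearMap.mem_ker, LinearMap.sub_apply, Matrix.toLin'_apply,
        F.mat_mulVec, LinearMap.id_apply, F.σ_apply, add_sub_cancel_left, smul_eq_zero, neg_eq_zero,
        or_iff_left F.ne_zero]
    rw [this]
    have hs : Function.Surjective F.M := fun r => ⟨(r / 2) • e, by
      rw [map_smul, F.M_e, smul_eq_mul]; ring⟩
    have h4 := LinearMap.finrank_range_add_finrank_ker F.M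
    have hV : Module.finrank ℂ (Fin 4 → ℂ) = 4 := Module.finrank_fin_fun ℂ
    rw [LinearMap.range_eq_top.2 hs, finrank_top, Module.finrank_self] at h4
    exact Nat.add_left_cancel (n := 1) (h4.trans hV)
  · rw [scaling_iff]
    intro u
    rw [one_mul, hS.1, hS.1, F.mat_mulVec, F.σ_preserves]

theorem Frame.eq_mat (F : Frame S e) (hS : IsPolar f S) {A : Matrix (Fin 4) (Fin 4) ℂ}
    (hA : IsInvolution f e A) : A = F.mat := by
  obtain ⟨hAA, hrk, hAe, c, hc⟩ := hA
  rw [scaling_iff] at hc
  have hinv : ∀ u, A *ᵥ (A *ᵥ u) = u := fun u => by rw [Matrix.mulVec_mulVec, hAA, Matrix.one_mulVec]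
  let H := LinearMap.ker (Matrix.toLin' A - LinearMap.id)
  let K := LinearMap.ker (Matrix.toLin' A + LinearMap.id)
  have hHmem : ∀ u, u ∈ H ↔ A *ᵥ u = u := fun u => by
    simp [H, LinearMap.mem_ker, sub_eq_zero]
  have hKmem : ∀ u, u ∈ K ↔ A *ᵥ u = -u := fun u => by
    simp [K, LinearMap.mem_ker, add_eq_zero_iff_eq_neg]
  have hdisj : Disjoint H K := by
    rw [Submodule.disjoint_def]
    intro u h1 h2
    rw [hHmem] at h1
    rw [hKmem, h1] at h2
    funext i
    exact CharZero.eq_neg_self_iff.1 (congrFun h2 i)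
  have hK : K = Submodule.span ℂ {e} := by
    symm
    refine Submodule.eq_of_le_of_finrank_le ?_ ?_
    · rw [Submodule.span_le, Set.singleton_subset_iff]; exact (hKmem e).2 hAe
    · have := Submodule.finrank_add_finrank_le_of_disjoint hdisj
      rw [finrank_span_singleton F.ne_zero]
      have hV : Module.finrank ℂ (Fin 4 → ℂ) = 4 := Module.finrank_fin_fun ℂ
      change Module.finrank ℂ H = 3 at hrk
      change Module.finrank ℂ K ≤ 1
      change Module.finrank ℂ H + Module.finrank ℂ K ≤ Module.finrank ℂ (Fin 4 → ℂ) at this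
      omega
  have hdec : ∀ u, ∃ h ∈ H, ∃ t : ℂ, u = h + t • e := by
    intro u
    have h1 : (2⁻¹ : ℂ) • (u + A *ᵥ u) ∈ H := by
      rw [hHmem, Matrix.mulVec_smul, Matrix.mulVec_add, hinv, add_comm]
    have h2 : (2⁻¹ : ℂ) • (u - A *ᵥ u) ∈ K := by
      rw [hKmem, Matrix.mulVec_smul, Matrix.mulVec_sub, hinv, ← smul_neg, neg_sub]
    rw [hK, Submodule.mem_span_singleton] at h2
    obtain ⟨t, ht⟩ := h2
    exact ⟨_, h1, t, by rw [ht]; module⟩
  have heq : ∀ h ∈ H, ∀ t : ℂ, S.T (h + (-t) • e) (h + (-t) • e) (h + (-t) • e) =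
      c * S.T (h + t • e) (h + t • e) (h + t • e) := by
    intro h hh t
    rw [← hS.1, ← hS.1, ← hc, Matrix.mulVec_add, (hHmem h).1 hh, Matrix.mulVec_smul, hAe, smul_neg,
      neg_smul]
  have hzero : ∀ h ∈ H, (1 - c) * lin S e h = 0 ∧ (1 + c) * (lin S e h * F.M h) = 0 := by
    intro h hh
    have h0 := heq h hh 0
    rw [neg_zero, zero_smul, add_zero] at h0
    have h1 := heq h hh 1
    rw [F.f_add, F.f_add] at h1
    have h2 := heq h hh (-1)
    rw [F.f_add, F.f_add] at h2
    exact ⟨by linear_combination (h1 + h2) / 2 - h0, by linear_combination (h2 - h1) / 2⟩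
  obtain ⟨x, hx⟩ := F.L_ne
  obtain ⟨h₀, hh₀, t, rfl⟩ := hdec x
  rw [map_add, map_smul, F.lin_self, smul_zero, add_zero] at hx
  have hc1 : c = 1 := by
    have := (hzero h₀ hh₀).1
    rcases mul_eq_zero.1 this with h | h
    · linear_combination -h
    · exact absurd h hx
  have hM : ∀ h ∈ H, F.M h = 0 := by
    have hprod : ∀ h ∈ H, lin S e h * F.M h = 0 := fun h hh => by
      have := (hzero h hh).2
      rw [hc1] at this
      linear_combination this / 2
    intro h hh
    have h1 := hprod h hh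
    rcases mul_eq_zero.1 h1 with hl | hm
    · have h0 := hprod h₀ hh₀
      have h2 := hprod (h + h₀) (H.add_mem hh hh₀)
      rw [map_add, map_add, hl, zero_add, mul_add, h0, add_zero] at h2
      exact (mul_eq_zero.1 h2).resolve_left hx
    · exact hm
  apply Matrix.toLin'.injective
  apply LinearMap.ext
  intro u
  rw [Matrix.toLin'_apply, Matrix.toLin'_apply, F.mat_mulVec]
  obtain ⟨h, hh, s, rfl⟩ := hdec u
  rw [Matrix.mulVec_add, (hHmem h).1 hh, Matrix.mulVec_smul, hAe, map_add, map_smul, F.σ_e,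
    F.σ_apply h, hM h hh, neg_zero, zero_smul, add_zero]

end Groth.Agent.Eckardt
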