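import Groth.Agent.Eckardt.Pair

/-!
# Converse statements about Eckardt involutions
-/

set_option autoImplicit false

open MvPolynomial Matrix

namespace Groth.Agent.Eckardt

variable {S : SymTri} {f : MvPolynomial (Fin 4) ℂ}

theorem SymTri.polar2 (S : SymTri) (u w e : V) :
    S.T (u + w) (u + w) e = S.T u u e + 2 * S.T u w e + S.T w w e := by
  simp only [S.add, S.add2]
  rw [S.comm12 w u]
  ring

/-- A point at which all second order values vanish is the origin. -/
theorem eq_zero_of_singular (hS : IsPolar f S) (hsm : IsSmoothCubic f) {x : V}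
    (hx : ∀ v, S.T v x x = 0) : x = 0 := by
  by_contra h
  obtain ⟨i, hi⟩ := hsm x h (by rw [hS.1]; exact hx x)
  rw [hS.2, hx, mul_zero] at hi
  exact hi rfl

/-- On a line of the surface through two Eckardt points, each involution fixes the other point. -/
theorem M_eq_zero_of_line (hS : IsPolar f S) (hsm : IsSmoothCubic f) {e e' : V} (F : Frame S e)
    (G : Frame S e') (he' : e' ∉ Submodule.span ℂ {e}) (hL : lin S e e' = 0) : F.M e' = 0 := by
  by_contra hm
  have hL' : lin S e' e = 0 := by rw [F.lin_pair, hL, zero_mul]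
  have pol : ∀ {a : V} (K : Frame S a) (u w : V),
      6 * S.T u w a = lin S a u * K.M w + lin S a w * K.M u := fun {a} K u w => by
    have h := K.quad (u + w)
    rw [SymTri.polar2, map_add, map_add] at h
    linear_combination h - K.quad u - K.quad w
  have h1 : ∀ w, 6 * S.T e' w e = lin S e w * F.M e' := fun w => by
    rw [pol F, hL, zero_mul, zero_add]
  have h2 : ∀ w, 6 * S.T e w e' = lin S e' w * G.M e := fun w => by
    rw [pol G, hL', zero_mul, zero_add]
  have heq : ∀ w, lin S e w * F.M e' = lin S e' w * G.M e := fun w => by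
    rw [← h1, ← h2, S.comm12 e' w e, S.comm23 w e' e, S.comm12 w e e']
  have hm' : G.M e ≠ 0 := by
    intro h
    obtain ⟨u, hu⟩ := F.L_ne
    have := heq u
    rw [h, mul_zero] at this
    exact mul_ne_zero hu hm this
  obtain ⟨s, hs⟩ : ∃ s : ℂ, s ^ 2 + F.M e' * s + F.M e' / G.M e = 0 := by
    obtain ⟨r, hr⟩ := IsAlgClosed.exists_pow_nat_eq (F.M e' ^ 2 / 4 - F.M e' / G.M e) two_pos
    exact ⟨r - F.M e' / 2, by linear_combination hr⟩
  have hsing : ∀ v, S.T v (e' + s • e) (e' + s • e) = 0 := fun v => by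
    have hv : 3 * S.T v e' e' = lin S e' v := rfl
    have hv' : 3 * S.T v e e = lin S e v := rfl
    have hlin : lin S e' v = lin S e v * (F.M e' / G.M e) := by
      field_simp
      linear_combination -(heq v)
    have hmix : 6 * S.T v e' e = lin S e v * F.M e' := by rw [← h1, S.comm12 v e' e]
    simp only [S.add2, S.add3, S.smul2, S.smul3]
    rw [S.comm23 v e e']
    linear_combination hv / 3 + hlin / 3 + s ^ 2 * hv' / 3 + s * hmix / 3 + lin S e v * hs / 3
  have := eq_zero_of_singular hS hsm hsing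
  exact he' (Submodule.mem_span_singleton.2 ⟨-s, by rw [neg_smul]; exact (eq_neg_of_add_eq_zero_left this).symm⟩)

theorem commute_of_line (hS : IsPolar f S) (hsm : IsSmoothCubic f) {e e' : V} (F : Frame S e)
    (G : Frame S e') (he' : e' ∉ Submodule.span ℂ {e})
    (hL : ∀ u ∈ Submodule.span ℂ {e, e'}, eval u f = 0) :
    F.mat * G.mat = G.mat * F.mat ∧ F.mat *ᵥ e' = e' ∧ G.mat *ᵥ e = e := by
  have h1 : lin S e e' = 0 := by
    by_contra h
    exact (not_subset_iff hS F G).2 h hL
  have h2 : lin S e' e = 0 := by rw [F.lin_pair, h1, zero_mul]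
  have hm := M_eq_zero_of_line hS hsm F G he' h1
  have hm' := M_eq_zero_of_line hS hsm G F (notMem_span_symm F he') h2
  refine ⟨?_, by rw [F.mat_mulVec, F.σ_apply, hm]; simp, by rw [G.mat_mulVec, G.σ_apply, hm']; simp⟩
  apply Matrix.toLin'.injective
  apply LinearMap.ext
  intro u
  rw [Matrix.toLin'_apply, Matrix.toLin'_apply, ← Matrix.mulVec_mulVec, ← Matrix.mulVec_mulVec,
    F.mat_mulVec, G.mat_mulVec, F.mat_mulVec, G.mat_mulVec]
  simp only [F.σ_apply, G.σ_apply, map_add, map_smul, hm, hm']
  module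

/-- A point isolated among the fixed points of an involution of the surface, lying on the surface,
is an Eckardt point. -/
theorem hasThreeLines_of_involution (hS : IsPolar f S) (hsm : IsSmoothCubic f) {p : V}
    {A : Matrix (Fin 4) (Fin 4) ℂ} (hp : p ≠ 0) (hfp : eval p f = 0) (hA : IsInvolution f p A) :
    HasThreeLines f p := by
  obtain ⟨-, hrk, hAp, c, hc⟩ := hA
  rw [scaling_iff] at hc
  let H := LinearMap.ker (Matrix.toLin' A - LinearMap.id)
  have hHmem : ∀ u, u ∈ H ↔ A *ᵥ u = u := fun u => by simp [H, LinearMap.mem_ker, sub_eq_zero]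
  have hppp : S.T p p p = 0 := by rw [← hS.1]; exact hfp
  have hdisj : Disjoint H (Submodule.span ℂ {p}) := by
    rw [Submodule.disjoint_def]
    intro u h1 h2
    obtain ⟨t, rfl⟩ := Submodule.mem_span_singleton.1 h2
    rw [hHmem, Matrix.mulVec_smul, hAp, smul_neg] at h1
    funext i
    exact CharZero.eq_neg_self_iff.1 (congrFun h1 i).symm
  have htop : H ⊔ Submodule.span ℂ {p} = ⊤ := by
    apply Submodule.eq_top_of_finrank_eq
    have h1 := Submodule.finrank_sup_add_finrank_inf_eq H (Submodule.span ℂ {p})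
    rw [disjoint_iff.1 hdisj, finrank_bot, finrank_span_singleton hp] at h1
    change Module.finrank ℂ H = 3 at hrk
    rw [hrk] at h1
    rw [Module.finrank_fin_fun]
    simpa using h1
  have hdec : ∀ u, ∃ h ∈ H, ∃ t : ℂ, u = h + t • p := fun u => by
    obtain ⟨h, hh, z, hz, rfl⟩ := Submodule.mem_sup.1 (htop ▸ Submodule.mem_top (x := u))
    obtain ⟨t, rfl⟩ := Submodule.mem_span_singleton.1 hz
    exact ⟨h, hh, t, rfl⟩
  have hLp : lin S p p = 0 := by show 3 * S.T p p p = 0; rw [hppp, mul_zero]
  have hzero : ∀ h ∈ H, (1 - c) * lin S p h = 0 ∧ (1 + c) * S.T h h p = 0 := by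
    intro h hh
    have he : ∀ t : ℂ, S.T (h + (-t) • p) (h + (-t) • p) (h + (-t) • p) =
        c * S.T (h + t • p) (h + t • p) (h + t • p) := fun t => by
      rw [← hS.1, ← hS.1, ← hc, Matrix.mulVec_add, (hHmem h).1 hh, Matrix.mulVec_smul, hAp, smul_neg,
        neg_smul]
    have h0 := he 0
    rw [neg_zero, zero_smul, add_zero] at h0
    have h1 := he 1
    have h2 := he (-1)
    rw [S.expand, S.expand, hppp] at h1 h2
    exact ⟨by show (1 - c) * (3 * S.T h p p) = 0; linear_combination (h1 + h2) / 2 - h0,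
      by linear_combination (h2 - h1) / 6⟩
  obtain ⟨h₀, hh₀, hL₀⟩ : ∃ h₀ ∈ H, lin S p h₀ ≠ 0 := by
    obtain ⟨i, hi⟩ := hsm p hp hfp
    rw [hS.2] at hi
    obtain ⟨h, hh, t, ht⟩ := hdec (Pi.single i 1)
    refine ⟨h, hh, ?_⟩
    have h3 : lin S p (Pi.single i 1) ≠ 0 := hi
    rwa [ht, map_add, map_smul, hLp, smul_zero, add_zero] at h3
  have hc1 : c = 1 := by
    have := (mul_eq_zero.1 (hzero h₀ hh₀).1).resolve_right hL₀
    linear_combination -this
  have hhp : ∀ h ∈ H, S.T h h p = 0 := fun h hh => by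
    have := (hzero h hh).2
    rw [hc1] at this
    linear_combination this / 2
  have hxy : ∀ x ∈ H, ∀ y ∈ H, S.T x y p = 0 := fun x hx y hy => by
    have := hhp _ (H.add_mem hx hy)
    rw [SymTri.polar2, hhp x hx, hhp y hy] at this
    linear_combination this / 2
  let K := H ⊓ LinearMap.ker (lin S p)
  have hK2 : Module.finrank ℂ K = 2 := by
    have hs : LinearMap.range ((lin S p).comp H.subtype) = ⊤ := by
      rw [LinearMap.range_eq_top]
      intro r
      exact ⟨(r / lin S p h₀) • (⟨h₀, hh₀⟩ : H), by simp [div_mul_cancel₀ r hL₀]⟩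
    have h4 := LinearMap.finrank_range_add_finrank_ker ((lin S p).comp H.subtype)
    change Module.finrank ℂ H = 3 at hrk
    rw [hs, finrank_top, Module.finrank_self, hrk] at h4
    have e1 : K = (LinearMap.ker ((lin S p).comp H.subtype)).map H.subtype := by
      rw [LinearMap.ker_comp, Submodule.map_comap_subtype]
    rw [e1, Submodule.finrank_map_subtype_eq]
    omega
  have hkey : ∀ w ∈ K, (∀ v ∈ K, S.T v w w = 0) → w = 0 := by
    intro w hw hv
    let ψ : V →ₗ[ℂ] ℂ := lin S w
    have hψ : ∀ h ∈ H, ψ h = ψ h₀ / lin S p h₀ * lin S p h := fun h hh => by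
      have hk : h - (lin S p h / lin S p h₀) • h₀ ∈ K := by
        refine ⟨H.sub_mem hh (H.smul_mem _ hh₀), ?_⟩
        show lin S p _ = 0
        rw [map_sub, map_smul, smul_eq_mul, div_mul_cancel₀ _ hL₀, sub_self]
      have : ψ (h - (lin S p h / lin S p h₀) • h₀) = 0 := by
        show 3 * S.T _ w w = 0
        rw [hv _ hk, mul_zero]
      rw [map_sub, map_smul, smul_eq_mul, sub_eq_zero] at this
      rw [this]; ring
    obtain ⟨s, hs⟩ := IsAlgClosed.exists_pow_nat_eq (-(ψ h₀ / lin S p h₀)) two_pos
    have hsing : ∀ v, S.T v (w + s • p) (w + s • p) = 0 := by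
      intro v
      obtain ⟨h, hh, t, rfl⟩ := hdec v
      have e1 : 3 * S.T h w w = ψ h₀ / lin S p h₀ * (3 * S.T h p p) := hψ h hh
      have e2 : S.T h w p = 0 := hxy h hh w hw.1
      have e3 : S.T w w p = 0 := hhp w hw.1
      have e4 : 3 * S.T w p p = 0 := hw.2
      simp only [S.add, S.smul, S.add2, S.add3, S.smul2, S.smul3]
      rw [S.comm23 h p w, S.comm12 p w w, S.comm23 w p w, S.comm12 p w p, S.comm12 p p w,
        S.comm23 p p w, S.comm12 p w p]
      linear_combination e1 / 3 + 2 * s * e2 + S.T h p p * hs + t * e3 + 2 * t * s * e4 / 3 +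
        t * s ^ 2 * hppp
    have h5 := eq_zero_of_singular hS hsm hsing
    have : w ∈ Submodule.span ℂ {p} :=
      Submodule.mem_span_singleton.2 ⟨-s, by rw [neg_smul]; exact (eq_neg_of_add_eq_zero_left h5).symm⟩
    exact (Submodule.disjoint_def.1 hdisj) w hw.1 this
  obtain ⟨b, hb, hbbb⟩ : ∃ b ∈ K, S.T b b b ≠ 0 := by
    by_contra hcon
    push Not at hcon
    have hKne : K ≠ ⊥ := fun h => by rw [h, finrank_bot] at hK2; omega
    obtain ⟨w, hw, hw0⟩ := (Submodule.ne_bot_iff K).1 hKne
    refine hw0 (hkey w hw fun v hv => ?_)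
    have h1 := hcon _ (K.add_mem hw (K.smul_mem (1 : ℂ) hv))
    have h2 := hcon _ (K.add_mem hw (K.smul_mem (-1 : ℂ) hv))
    rw [S.expand, hcon w hw, hcon v hv] at h1 h2
    rw [S.comm12 v w w, S.comm23 w v w]
    linear_combination (h1 - h2) / 6
  have hb0 : b ≠ 0 := fun h => hbbb (by rw [h]; simpa using S.smul 0 0 0 0)
  obtain ⟨a, ha, hab⟩ : ∃ a ∈ K, a ∉ Submodule.span ℂ {b} := by
    by_contra hcon
    push Not at hcon
    have := Submodule.finrank_mono (show K ≤ Submodule.span ℂ {b} from hcon)
    rw [hK2, finrank_span_singleton hb0] at this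
    omega
  have hspan : ∀ v ∈ K, ∃ x y : ℂ, v = x • a + y • b := by
    have hli : LinearIndependent ℂ ![b, a] := by
      rw [LinearIndependent.pair_iff' hb0]
      exact fun r hr => hab (Submodule.mem_span_singleton.2 ⟨r, hr⟩)
    have e : Submodule.span ℂ {b, a} = K := by
      refine Submodule.eq_of_le_of_finrank_le (Submodule.span_le.2 ?_) ?_
      · rintro x (rfl | rfl)
        exacts [hb, ha]
      · have := finrank_span_eq_card hli
        rw [Matrix.range_cons, Matrix.range_cons, Matrix.range_empty, Set.union_empty,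
          Set.singleton_union] at this
        rw [hK2, this]; simp
    intro v hv
    obtain ⟨y, x, hxy⟩ := Submodule.mem_span_pair.1 (e.symm ▸ hv)
    exact ⟨x, y, by rw [← hxy, add_comm]⟩
  let P : Polynomial ℂ := Polynomial.C (S.T a a a) + Polynomial.C (3 * S.T a a b) * Polynomial.X +
    Polynomial.C (3 * S.T a b b) * Polynomial.X ^ 2 + Polynomial.C (S.T b b b) * Polynomial.X ^ 3
  have hPev : ∀ s : ℂ, P.eval s = S.T (a + s • b) (a + s • b) (a + s • b) := fun s => by
    rw [S.expand]; simp [P]; ring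
  have hPdeg : P.natDegree = 3 := by simp only [P]; compute_degree!
  have hP0 : P ≠ 0 := fun h => by rw [h, Polynomial.natDegree_zero] at hPdeg; omega
  have hnd : P.roots.Nodup := by
    rw [Multiset.nodup_iff_count_le_one]
    intro s
    rw [Polynomial.count_roots]
    by_contra hs
    rw [not_le, Polynomial.one_lt_rootMultiplicity_iff_isRoot hP0] at hs
    obtain ⟨h1, h2⟩ := hs
    have h1' : S.T (a + s • b) (a + s • b) (a + s • b) = 0 := by rw [← hPev]; exact h1
    have h2' : S.T b (a + s • b) (a + s • b) = 0 := by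
      simp [P, Polynomial.IsRoot] at h2
      simp only [S.add2, S.add3, S.smul2, S.smul3]
      rw [S.comm12 b a a, S.comm23 a b a, S.comm12 b a b, S.comm23 b b a, S.comm12 b a b]
      linear_combination h2 / 3
    have h3 : S.T a (a + s • b) (a + s • b) = 0 := by
      have h4 := h1'
      rw [S.add, S.smul, h2', mul_zero, add_zero] at h4
      exact h4
    have hw0 := hkey (a + s • b) (K.add_mem ha (K.smul_mem s hb)) fun v hv => by
      obtain ⟨x, y, rfl⟩ := hspan v hv
      rw [S.add, S.smul, S.smul, h2', h3, mul_zero, mul_zero, add_zero]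
    exact hab (Submodule.mem_span_singleton.2 ⟨-s, by rw [neg_smul]; exact (eq_neg_of_add_eq_zero_left hw0).symm⟩)
  have hcard : P.roots.toFinset.card = 3 := by
    rw [Multiset.toFinset_card_of_nodup hnd, ← hPdeg]
    exact (IsAlgClosed.splits P).natDegree_eq_card_roots.symm
  let r : Fin 3 → ℂ := fun i => ((Finset.equivFinOfCardEq hcard).symm i : ℂ)
  have hrinj : Function.Injective r :=
    Subtype.val_injective.comp (Finset.equivFinOfCardEq hcard).symm.injective
  have hr : ∀ i, S.T (a + r i • b) (a + r i • b) (a + r i • b) = 0 := fun i => by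
    have := ((Finset.equivFinOfCardEq hcard).symm i).2
    rw [Multiset.mem_toFinset, Polynomial.mem_roots hP0, Polynomial.IsRoot, hPev] at this
    exact this
  have hwK : ∀ i, a + r i • b ∈ K := fun i => K.add_mem ha (K.smul_mem _ hb)
  have hindep : ∀ i, a + r i • b ∉ Submodule.span ℂ {p} := fun i h => by
    have := (Submodule.disjoint_def.1 hdisj) _ (hwK i).1 h
    exact hab (Submodule.mem_span_singleton.2 ⟨-r i, by rw [neg_smul]; exact (eq_neg_of_add_eq_zero_left this).symm⟩)
  refine ⟨fun i => Submodule.span ℂ {p, a + r i • b}, ?_, fun i => ⟨?_, ?_, ?_⟩⟩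
  · intro i j hij
    simp only at hij
    have hm : a + r i • b ∈ Submodule.span ℂ {p, a + r j • b} :=
      hij ▸ Submodule.subset_span (Or.inr rfl)
    obtain ⟨x, y, hxy'⟩ := Submodule.mem_span_pair.1 hm
    have hx : x • p = 0 := by
      apply (Submodule.disjoint_def.1 hdisj) _ ?_ (Submodule.smul_mem _ x (Submodule.mem_span_singleton_self p))
      have : x • p = (a + r i • b) - y • (a + r j • b) := by rw [← hxy']; module
      rw [this]
      exact H.sub_mem (hwK i).1 (H.smul_mem _ (hwK j).1)
    rw [hx, zero_add] at hxy'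
    have hli : LinearIndependent ℂ ![b, a] := by
      rw [LinearIndependent.pair_iff' hb0]
      exact fun r hr => hab (Submodule.mem_span_singleton.2 ⟨r, hr⟩)
    rw [LinearIndependent.pair_iff] at hli
    obtain ⟨h1, h2⟩ := hli (y * r j - r i) (y - 1) (by linear_combination (norm := module) hxy')
    exact hrinj (by linear_combination -h1 + r j * h2)
  · have hli : LinearIndependent ℂ ![p, a + r i • b] := by
      rw [LinearIndependent.pair_iff' hp]
      exact fun t ht => hindep i (Submodule.mem_span_singleton.2 ⟨t, ht⟩)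
    have := finrank_span_eq_card hli
    rw [Matrix.range_cons, Matrix.range_cons, Matrix.range_empty, Set.union_empty,
      Set.singleton_union] at this
    rw [this]; simp
  · exact Submodule.subset_span (Or.inl rfl)
  · intro u hu
    obtain ⟨x, y, rfl⟩ := Submodule.mem_span_pair.1 hu
    have e1 : S.T (a + r i • b) (a + r i • b) p = 0 := hhp _ (hwK i).1
    have e2 : 3 * S.T (a + r i • b) p p = 0 := (hwK i).2
    rw [hS.1, add_comm, S.expand]
    simp only [S.smul, S.smul2, S.smul3]
    linear_combination y ^ 3 * hr i + 3 * x * y ^ 2 * e1 + x ^ 2 * y * e2 + x ^ 3 * hppp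

end Groth.Agent.Eckardt
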