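import Groth.Agent.Eckardt.Basic

/-!
# Two Eckardt points
-/

set_option autoImplicit false

open MvPolynomial Matrix

namespace Groth.Agent.Eckardt

variable {S : SymTri} {e e' : V} {f : MvPolynomial (Fin 4) ℂ}

theorem Frame.σ_injective (F : Frame S e) : Function.Injective F.σ :=
  Function.LeftInverse.injective F.σ_σ

theorem Frame.lin_pair (F : Frame S e) : lin S e' e = lin S e e' * F.M e' := by
  rw [← F.quad]
  show 3 * S.T e e' e' = _
  rw [S.comm12 e e' e', S.comm23 e' e e']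

/-- The restriction of the cubic to the line through two Eckardt points. -/
theorem eval_line (hS : IsPolar f S) (F : Frame S e) (G : Frame S e') (x y : ℂ) :
    eval (x • e + y • e') f = x * y * lin S e e' * (x + y * F.M e') := by
  rw [hS.1, add_comm, F.f_add, map_smul, map_smul, smul_eq_mul, smul_eq_mul]
  simp only [S.smul, S.smul2, S.smul3]
  rw [G.eee]
  ring

theorem not_subset_iff (hS : IsPolar f S) (F : Frame S e) (G : Frame S e') :
    (¬ ∀ u ∈ Submodule.span ℂ {e, e'}, eval u f = 0) ↔ lin S e e' ≠ 0 := by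
  constructor
  · intro h hL
    refine h fun u hu => ?_
    obtain ⟨x, y, rfl⟩ := Submodule.mem_span_pair.1 hu
    rw [eval_line hS F G, hL]
    ring
  · intro hL h
    have h1 := h _ (Submodule.mem_span_pair.2 ⟨1, 1, rfl⟩)
    have h2 := h _ (Submodule.mem_span_pair.2 ⟨-1, 1, rfl⟩)
    rw [eval_line hS F G] at h1 h2
    apply hL
    linear_combination (h1 + h2) / 2

theorem M_ne_zero (F : Frame S e) (G : Frame S e') (hL : lin S e e' ≠ 0) : F.M e' ≠ 0 := by
  intro hM
  have h1 : lin S e' e = 0 := by rw [F.lin_pair, hM, mul_zero]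
  refine hL ?_
  rw [G.lin_pair, h1, zero_mul]

theorem notMem_span_symm (F : Frame S e) (he' : e' ∉ Submodule.span ℂ {e}) :
    e ∉ Submodule.span ℂ {e'} := by
  intro h
  obtain ⟨c, hc⟩ := Submodule.mem_span_singleton.1 h
  have hc0 : c ≠ 0 := fun h0 => F.ne_zero (by rw [← hc, h0, zero_smul])
  exact he' (Submodule.mem_span_singleton.2 ⟨c⁻¹, by rw [← hc, inv_smul_smul₀ hc0]⟩)

theorem HasThreeLines.σ (hS : IsPolar f S) (F : Frame S e) (h : HasThreeLines f e') :
    HasThreeLines f (F.σ e') := by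
  obtain ⟨U, hU, h⟩ := h
  refine ⟨fun i => (U i).map F.σ, (Submodule.map_injective_of_injective F.σ_injective).comp hU,
    fun i => ⟨?_, Submodule.mem_map_of_mem (h i).2.1, ?_⟩⟩
  · exact ((Submodule.equivMapOfInjective F.σ F.σ_injective (U i)).finrank_eq).symm.trans (h i).1
  · rintro u ⟨v, hv, rfl⟩
    rw [hS.1, F.σ_preserves, ← hS.1]
    exact (h i).2.2 v hv

theorem σ_notMem_left (F : Frame S e) (he' : e' ∉ Submodule.span ℂ {e}) :
    F.σ e' ∉ Submodule.span ℂ {e} := by
  intro h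
  apply he'
  rw [F.σ_apply] at h
  simpa using Submodule.sub_mem _ h (Submodule.smul_mem _ (-F.M e')
    (Submodule.mem_span_singleton_self e))

theorem σ_notMem_right (F : Frame S e) (he' : e' ∉ Submodule.span ℂ {e}) (hM : F.M e' ≠ 0) :
    F.σ e' ∉ Submodule.span ℂ {e'} := by
  intro h
  rw [F.σ_apply] at h
  have h2 := Submodule.sub_mem _ h (Submodule.mem_span_singleton_self e')
  rw [add_sub_cancel_left] at h2
  refine notMem_span_symm F he' ?_
  have h3 := Submodule.smul_mem _ (-F.M e')⁻¹ h2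
  rwa [inv_smul_smul₀ (neg_ne_zero.2 hM)] at h3

theorem mem_line_cases (hS : IsPolar f S) (F : Frame S e) (G : Frame S e') (hL : lin S e e' ≠ 0)
    {u : V} (hu : u ∈ Submodule.span ℂ {e, e'}) (h : eval u f = 0) :
    u ∈ Submodule.span ℂ {e} ∨ u ∈ Submodule.span ℂ {e'} ∨ u ∈ Submodule.span ℂ {F.σ e'} := by
  obtain ⟨x, y, rfl⟩ := Submodule.mem_span_pair.1 hu
  rw [eval_line hS F G] at h
  simp only [mul_eq_zero, hL, or_false] at h
  rcases h with (h | h) | h
  · exact Or.inr (Or.inl (Submodule.mem_span_singleton.2 ⟨y, by simp [h]⟩))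
  · exact Or.inl (Submodule.mem_span_singleton.2 ⟨x, by simp [h]⟩)
  · refine Or.inr (Or.inr (Submodule.mem_span_singleton.2 ⟨y, ?_⟩))
    rw [F.σ_apply, show x = -(y * F.M e') by linear_combination h]
    module

theorem line_through (hS : IsPolar f S) (F : Frame S e) (G : Frame S e')
    (he' : e' ∉ Submodule.span ℂ {e}) (hE' : HasThreeLines f e') :
    Xor (∀ u ∈ Submodule.span ℂ {e, e'}, eval u f = 0)
      (∃ e'' : V, e'' ∈ Submodule.span ℂ {e, e'} ∧ e'' ∉ Submodule.span ℂ {e} ∧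
        e'' ∉ Submodule.span ℂ {e'} ∧ HasThreeLines f e'' ∧
        ∀ u ∈ Submodule.span ℂ {e, e'}, eval u f = 0 →
          u ∈ Submodule.span ℂ {e} ∨ u ∈ Submodule.span ℂ {e'} ∨ u ∈ Submodule.span ℂ {e''}) := by
  by_cases h : ∀ u ∈ Submodule.span ℂ {e, e'}, eval u f = 0
  · refine Or.inl ⟨h, ?_⟩
    rintro ⟨e'', he''L, he''1, he''2, -, hall⟩
    obtain ⟨x, y, hxy⟩ := Submodule.mem_span_pair.1 he''L
    have hx : x ≠ 0 := fun hx => he''2 (Submodule.mem_span_singleton.2 ⟨y, by rw [← hxy, hx]; simp⟩)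
    have hy : y ≠ 0 := fun hy => he''1 (Submodule.mem_span_singleton.2 ⟨x, by rw [← hxy, hy]; simp⟩)
    have hli : LinearIndependent ℂ ![e, e'] := by
      rw [LinearIndependent.pair_iff' F.ne_zero]
      exact fun a ha => he' (Submodule.mem_span_singleton.2 ⟨a, ha⟩)
    rw [LinearIndependent.pair_iff] at hli
    have hw := hall (x • e + (2 * y) • e') (Submodule.mem_span_pair.2 ⟨x, 2 * y, rfl⟩)
      (h _ (Submodule.mem_span_pair.2 ⟨x, 2 * y, rfl⟩))
    rcases hw with hw | hw | hw <;> obtain ⟨t, ht⟩ := Submodule.mem_span_singleton.1 hw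
    · have := (hli (t - x) (-(2 * y)) (by linear_combination (norm := module) ht)).2
      simp [hy] at this
    · have := (hli (-x) (t - 2 * y) (by linear_combination (norm := module) ht)).1
      simp [hx] at this
    · rw [← hxy] at ht
      obtain ⟨h1, h2⟩ := hli (t * x - x) (t * y - 2 * y) (by linear_combination (norm := module) ht)
      have ht1 : t = 1 := by
        have : (t - 1) * x = 0 := by linear_combination h1
        exact sub_eq_zero.1 ((mul_eq_zero.1 this).resolve_right hx)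
      rw [ht1] at h2
      exact hy (by linear_combination -h2)
  · have hL := (not_subset_iff hS F G).1 h
    refine Or.inr ⟨⟨F.σ e', ?_, σ_notMem_left F he', σ_notMem_right F he' (M_ne_zero F G hL),
      HasThreeLines.σ hS F hE', fun u hu hu0 => mem_line_cases hS F G hL hu hu0⟩, h⟩
    exact Submodule.mem_span_pair.2 ⟨-F.M e', 1, by rw [F.σ_apply]; module⟩

theorem conj_eq (hS : IsPolar f S) (F : Frame S e) (G : Frame S e') {e'' : V}
    (K : Frame S e'') {t : ℂ} (ht : e'' = t • F.σ e') : K.mat = F.mat * G.mat * F.mat := by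
  symm
  apply K.eq_mat hS
  have hmul : ∀ u, (F.mat * G.mat * F.mat) *ᵥ u = F.σ (G.σ (F.σ u)) := fun u => by
    rw [← Matrix.mulVec_mulVec, ← Matrix.mulVec_mulVec, F.mat_mulVec, G.mat_mulVec, F.mat_mulVec]
  refine ⟨?_, ?_, ?_, 1, ?_⟩
  · calc F.mat * G.mat * F.mat * (F.mat * G.mat * F.mat)
        = F.mat * G.mat * (F.mat * F.mat) * G.mat * F.mat := by simp only [Matrix.mul_assoc]
      _ = 1 := by rw [F.mat_mul_self, Matrix.mul_one, Matrix.mul_assoc F.mat, G.mat_mul_self,
            Matrix.mul_one, F.mat_mul_self]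
  · have hk : LinearMap.ker (Matrix.toLin' (F.mat * G.mat * F.mat) - LinearMap.id) =
        (LinearMap.ker (Matrix.toLin' G.mat - LinearMap.id)).map F.σ := by
      ext u
      simp only [LinearMap.mem_ker, LinearMap.sub_apply, Matrix.toLin'_apply, LinearMap.id_apply,
        sub_eq_zero, hmul, Submodule.mem_map, G.mat_mulVec]
      constructor
      · intro h
        exact ⟨F.σ u, by have := congrArg F.σ h; rwa [F.σ_σ] at this, F.σ_σ u⟩
      · rintro ⟨v, hv, rfl⟩
        rw [F.σ_σ, hv]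
    rw [hk]
    exact ((Submodule.equivMapOfInjective F.σ F.σ_injective _).finrank_eq).symm.trans
      (G.isInvolution hS).2.1
  · rw [hmul, ht, map_smul, F.σ_σ, map_smul, G.σ_e, map_smul, map_neg, smul_neg]
  · rw [scaling_iff]
    intro u
    rw [one_mul, hS.1, hS.1, hmul, F.σ_preserves, G.σ_preserves, F.σ_preserves]

theorem dihedral (hS : IsPolar f S) (F : Frame S e) (G : Frame S e') {e'' : V}
    (K : Frame S e'') (he' : e' ∉ Submodule.span ℂ {e}) (he''1 : e'' ∉ Submodule.span ℂ {e})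
    (he''2 : e'' ∉ Submodule.span ℂ {e'}) (he''L : e'' ∈ Submodule.span ℂ {e, e'})
    (hL : ¬ ∀ u ∈ Submodule.span ℂ {e, e'}, eval u f = 0) :
    (¬ ∃ c : ℂ, F.mat * G.mat = c • (1 : Matrix (Fin 4) (Fin 4) ℂ)) ∧
      (∃ c : ℂ, (F.mat * G.mat) ^ 3 = c • (1 : Matrix (Fin 4) (Fin 4) ℂ)) ∧
      ∃ c : ℂ, K.mat = c • (F.mat * G.mat * F.mat) := by
  have h0 : eval e'' f = 0 := by rw [hS.1]; exact K.eee
  have hL' : ¬ ∀ u ∈ Submodule.span ℂ {e', e}, eval u f = 0 := by rwa [Set.pair_comm]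
  have hLe := (not_subset_iff hS F G).1 hL
  have hLe' := (not_subset_iff hS G F).1 hL'
  have hcase1 : ∃ t : ℂ, e'' = t • F.σ e' := by
    rcases mem_line_cases hS F G hLe he''L h0 with h | h | h
    · exact absurd h he''1
    · exact absurd h he''2
    · obtain ⟨t, ht⟩ := Submodule.mem_span_singleton.1 h; exact ⟨t, ht.symm⟩
  have hcase2 : ∃ t : ℂ, e'' = t • G.σ e := by
    rcases mem_line_cases hS G F hLe' (by rwa [Set.pair_comm]) h0 with h | h | h
    · exact absurd h he''2
    · exact absurd h he''1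
    · obtain ⟨t, ht⟩ := Submodule.mem_span_singleton.1 h; exact ⟨t, ht.symm⟩
  have h1 := conj_eq hS F G K hcase1.choose_spec
  have h2 := conj_eq hS G F K hcase2.choose_spec
  refine ⟨?_, ⟨1, ?_⟩, 1, by rw [one_smul, h1]⟩
  · rintro ⟨c, hc⟩
    have hGF : G.mat = c • F.mat := by
      calc G.mat = F.mat * (F.mat * G.mat) := by rw [← Matrix.mul_assoc, F.mat_mul_self, Matrix.one_mul]
        _ = c • F.mat := by rw [hc, Matrix.mul_smul, Matrix.mul_one]
    have h3 := G.σ_e
    rw [← G.mat_mulVec, hGF, Matrix.smul_mulVec, F.mat_mulVec] at h3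
    refine σ_notMem_right F he' (M_ne_zero F G hLe) ((Submodule.mem_span_singleton (R := ℂ)).2 ⟨-c⁻¹, ?_⟩)
    have hc0 : c ≠ 0 := fun h => G.ne_zero (by rw [h, zero_smul] at h3; exact neg_eq_zero.1 h3.symm)
    rw [neg_smul, ← smul_neg, ← h3, inv_smul_smul₀ hc0]
  · calc (F.mat * G.mat) ^ 3 = (F.mat * G.mat * F.mat) * (G.mat * F.mat * G.mat) := by
          rw [pow_succ, pow_two]; simp only [Matrix.mul_assoc]
      _ = (1 : ℂ) • 1 := by rw [← h1, ← h2, K.mat_mul_self, one_smul]

end Groth.Agent.Eckardt
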